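import Groth.Agent.FibrewiseCrit.Unramified

/-!
Generic unramifiedness, generic etaleness and separability.
-/

universe u

open AlgebraicGeometry CategoryTheory Limits

namespace Groth.Agent.GenericEtale

theorem formallyUnramified_field_iff {K L : Type u} [Field K] [Field L] (g : K →+* L) (hess : g.EssFiniteType) :
    letI := g.toAlgebra
    (g.FormallyUnramified ↔ FiniteDimensional K L ∧ Algebra.IsSeparable K L) ∧
      (g.FormallyUnramified ↔ Algebra.IsSeparable K L) ∧ (Algebra.IsSeparable K L → g.FormallySmooth) := by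
  letI := g.toAlgebra
  haveI : Algebra.EssFiniteType K L := hess
  have h : g.FormallyUnramified ↔ Algebra.IsSeparable K L :=
    Algebra.FormallyUnramified.iff_isSeparable (K := K) L
  refine ⟨⟨fun hu => ⟨?_, h.1 hu⟩, fun hs => h.2 hs.2⟩, h, fun hs => ?_⟩
  · haveI : Algebra.FormallyUnramified K L := hu
    exact Algebra.FormallyUnramified.finite_of_free (R := K) (S := L)
  · haveI : Algebra.FormallyEtale K L := (Algebra.FormallyEtale.iff_isSeparable K L).2 hs
    exact (inferInstance : Algebra.FormallySmooth K L)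

variable {X Y : Scheme.{u}} (f : X ⟶ Y)

theorem exists_iff [IsIntegral X] [IsIntegral Y] [LocallyOfFinitePresentation f]
    (e : f (genericPoint X) = genericPoint Y) :
    letI := ((Y.presheaf.stalkSpecializes (specializes_of_eq e) ≫ f.stalkMap (genericPoint X)).hom).toAlgebra
    ((∃ U : X.Opens, (U : Set X).Nonempty ∧ FormallyUnramified (U.ι ≫ f)) ↔
      (∃ U : X.Opens, (U : Set X).Nonempty ∧ Etale (U.ι ≫ f))) ∧
    ((∃ U : X.Opens, (U : Set X).Nonempty ∧ Etale (U.ι ≫ f)) ↔
      Algebra.IsSeparable Y.functionField X.functionField) ∧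
    ((∃ U : X.Opens, (U : Set X).Nonempty ∧ Etale (U.ι ≫ f)) ↔
      (FiniteDimensional Y.functionField X.functionField ∧ Algebra.IsSeparable Y.functionField X.functionField)) := by
  let ξ := genericPoint X
  let σ := Y.presheaf.stalkSpecializes (specializes_of_eq e)
  haveI : IsIso σ := by
    refine ⟨Y.presheaf.stalkSpecializes (specializes_of_eq e.symm), ?_, ?_⟩ <;>
      simp [σ]
  let g : Y.functionField →+* X.functionField := (σ ≫ f.stalkMap ξ).hom
  letI := g.toAlgebra
  have hess : g.EssFiniteType :=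
    (RingHom.EssFiniteType.respectsIso.cancel_left_isIso σ (f.stalkMap ξ)).2 (LocallyOfFiniteType.stalkMap f ξ)
  obtain ⟨hfin, hsep, hsm⟩ := formallyUnramified_field_iff g hess
  have hfu : ξ ∈ Groth.FibrewiseCrit.fuLocus f ↔ g.FormallyUnramified :=
    (RingHom.FormallyUnramified.respectsIso.cancel_left_isIso σ (f.stalkMap ξ)).symm
  have hmem : ∀ {U : X.Opens}, (U : Set X).Nonempty → ξ ∈ U := fun {U} hU =>
    ((genericPoint_spec X).mem_open_set_iff U.2).2 (by simpa using hU)
  have h1 : (∃ U : X.Opens, (U : Set X).Nonempty ∧ FormallyUnramified (U.ι ≫ f)) ↔ g.FormallyUnramified := by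
    rw [← hfu, ← Groth.FibrewiseCrit.exists_nhd_formallyUnramified_iff f ξ]
    exact exists_congr fun U => and_congr_left' ⟨hmem, fun h => ⟨ξ, h⟩⟩
  have h2 : g.FormallyUnramified → ∃ U : X.Opens, (U : Set X).Nonempty ∧ Etale (U.ι ≫ f) := fun hu => by
    have hξs : ξ ∈ f.smoothLocus :=
      (RingHom.FormallySmooth.respectsIso.cancel_left_isIso σ (f.stalkMap ξ)).1 (hsm (hsep.1 hu))
    let U : X.Opens := f.smoothLocus ⊓ ⟨_, Groth.FibrewiseCrit.isOpen_fuLocus f⟩
    refine ⟨U, ⟨ξ, hξs, hfu.2 hu⟩, ?_⟩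
    haveI : Smooth (U.ι ≫ f) := by
      rw [← Scheme.Hom.smoothLocus_eq_top_iff, ← Scheme.Hom.preimage_smoothLocus_eq, eq_top_iff]
      exact fun w _ => w.2.1
    haveI : FormallyUnramified (U.ι ≫ f) :=
      (Groth.FibrewiseCrit.formallyUnramified_iff_forall_mem_fuLocus _).2 fun w =>
        (Groth.FibrewiseCrit.mem_fuLocus_comp_left _ f w).2 w.2.2
    exact Etale.of_formallyUnramified_of_flat _
  have h3 : (∃ U : X.Opens, (U : Set X).Nonempty ∧ Etale (U.ι ≫ f)) ↔ g.FormallyUnramified :=
    ⟨fun ⟨U, hU, hE⟩ => h1.1 ⟨U, hU, haveI := hE; inferInstance⟩, h2⟩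
  exact ⟨h1.trans h3.symm, h3.trans hsep, h3.trans hfin⟩

/-- A morphism between schemes of finite type over a field is locally of finite presentation. -/
theorem locallyOfFinitePresentation_of_over (k : Type u) [Field k] (a : X ⟶ Spec (CommRingCat.of k))
    (b : Y ⟶ Spec (CommRingCat.of k)) [LocallyOfFiniteType a] [LocallyOfFiniteType b] (hf : f ≫ b = a) :
    LocallyOfFinitePresentation f := by
  haveI : IsLocallyNoetherian Y := LocallyOfFiniteType.isLocallyNoetherian b
  haveI : LocallyOfFiniteType (f ≫ b) := by rw [hf]; infer_instance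
  haveI : LocallyOfFiniteType f := locallyOfFiniteType_of_comp f b
  exact LocallyOfFinitePresentation.iff_locallyOfFiniteType.2 inferInstance

end Groth.Agent.GenericEtale
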